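import Cfsg.Agent.Classification.CyclicNormalAbelian
import Cfsg.Agent.BlocksCharsC.PGroupCenter
import Cfsg.Agent.FrobComp.SylowStructure
import Mathlib

/-!
`p`-groups (`p` odd) acting on an elementary abelian group with stabilisers of constant order are cyclic and
fixed-point-free.
-/

set_option autoImplicit false
set_option linter.unusedSectionVars false
set_option linter.style.haveILetI false

namespace CfsgLib.HalfTransitive

variable {P E : Type*} [Group P] [Finite P] [AddCommGroup E] [Finite E] [DistribMulAction P E]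
  [FaithfulSMul P E] {p q : ℕ} [Fact p.Prime]

/-- The sum over the powers of `x`. -/
def orbitSum (p : ℕ) (x : P) (e : E) : E := ∑ i ∈ Finset.range p, x ^ i • e

theorem orbitSum_add (x : P) (e e' : E) : orbitSum p x (e + e') = orbitSum p x e + orbitSum p x e' := by
  simp [orbitSum, smul_add, Finset.sum_add_distrib]

theorem smul_orbitSum {x : P} (hx : x ^ p = 1) (e : E) : x • orbitSum p x e = orbitSum p x e := by
  have h := Finset.sum_range_succ' (fun i => x ^ i • e) p
  rw [Finset.sum_range_succ, hx, pow_zero, add_left_inj] at h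
  rw [orbitSum, Finset.smul_sum]
  simp only [← mul_smul, ← pow_succ']
  exact h.symm

theorem orbitSum_of_fixed {x : P} {e : E} (h : x • e = e) : orbitSum p x e = p • e := by
  have : ∀ i : ℕ, x ^ i • e = e := fun i => by
    induction i with
    | zero => simp
    | succ i ih => rw [pow_succ', mul_smul, ih, h]
  simp [orbitSum, this]

theorem eq_zero_of_nsmul (hpq : p ≠ q) (hq : q.Prime) (hE : ∀ e : E, q • e = 0) {e : E}
    (h : p • e = 0) : e = 0 := by
  have h1 : addOrderOf e ∣ Nat.gcd p q :=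
    Nat.dvd_gcd (addOrderOf_dvd_of_nsmul_eq_zero h) (addOrderOf_dvd_of_nsmul_eq_zero (hE e))
  rw [(Nat.coprime_primes Fact.out hq).2 hpq, Nat.dvd_one, AddMonoid.addOrderOf_eq_one_iff] at h1
  exact h1

section

variable (hconst : ∀ a b : E, a ≠ 0 → b ≠ 0 →
    Nat.card (MulAction.stabilizer P a) = Nat.card (MulAction.stabilizer P b))
  (hpq : p ≠ q) (hq : q.Prime) (hE : ∀ e : E, q • e = 0)

include hconst hpq hq hE

theorem fixed_of_central {z : P} (hz : z ^ p = 1) (hz1 : z ≠ 1) (hc : ∀ g : P, Commute z g)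
    {e : E} (he : z • e = e) : e = 0 := by
  by_contra he0
  obtain ⟨b, hb⟩ : ∃ b : E, z • b ≠ b := by
    by_contra hall
    push Not at hall
    exact hz1 (eq_of_smul_eq_smul fun b : E => (hall b).trans (one_smul P b).symm)
  set c := z • b - b with hcdef
  have hc0 : c ≠ 0 := sub_ne_zero.2 hb
  have hNc : orbitSum p z c = 0 := by
    have h := smul_orbitSum (p := p) hz b
    simp only [orbitSum, Finset.smul_sum, ← mul_smul] at h
    simp only [orbitSum, hcdef, smul_sub, ← mul_smul, Finset.sum_sub_distrib]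
    rw [sub_eq_zero]
    refine Eq.trans (Finset.sum_congr rfl fun i _ => ?_) h
    rw [((hc z).pow_right i).eq]
  -- `e + c` has the stabiliser of both summands
  have hsum : ∀ g : P, g • (e + c) = e + c → g • e = e ∧ g • c = c := by
    intro g hg
    rw [smul_add] at hg
    have h1 : z • (g • e) = g • e := by rw [← mul_smul, (hc g).eq, mul_smul, he]
    have h2 : orbitSum p z (g • c) = 0 := by
      have : ∀ i : ℕ, z ^ i • (g • c) = g • (z ^ i • c) := fun i => by
        rw [← mul_smul, ((hc g).pow_left i).eq, mul_smul]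
      simp only [orbitSum, this, ← Finset.smul_sum]
      rw [show ∑ i ∈ Finset.range p, z ^ i • c = 0 from hNc, smul_zero]
    have h3 := congrArg (orbitSum p z) hg
    rw [orbitSum_add, orbitSum_add, h2, hNc, add_zero, add_zero, orbitSum_of_fixed h1,
      orbitSum_of_fixed he, ← sub_eq_zero, ← smul_sub] at h3
    have h4 : g • e = e := sub_eq_zero.1 (eq_zero_of_nsmul hpq hq hE h3)
    rw [h4] at hg
    exact ⟨h4, add_left_cancel hg⟩
  have hec : e + c ≠ 0 := fun h => hc0 (by
    have h1 := congrArg (orbitSum p z) h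
    rw [orbitSum_add, hNc, add_zero, orbitSum_of_fixed he] at h1
    simp [orbitSum] at h1
    exact absurd (eq_zero_of_nsmul hpq hq hE h1) he0)
  have hle : MulAction.stabilizer P (e + c) ≤ MulAction.stabilizer P e := fun g hg => (hsum g hg).1
  have heq := Subgroup.eq_of_le_of_card_ge hle (hconst e (e + c) he0 hec).le
  have hzc : z • c = c := (hsum z (by
    have : z ∈ MulAction.stabilizer P (e + c) := heq.symm ▸ (he : z ∈ MulAction.stabilizer P e)
    exact this)).2
  exact hc0 (eq_zero_of_nsmul hpq hq hE ((orbitSum_of_fixed hzc).symm.trans hNc))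

theorem orbitSum_central {z : P} (hz : z ^ p = 1) (hz1 : z ≠ 1) (hc : ∀ g : P, Commute z g) (e : E) :
    orbitSum p z e = 0 :=
  fixed_of_central hconst hpq hq hE hz hz1 hc (smul_orbitSum hz e)

/-- `f * v` on an element fixed by `e * v`. -/
theorem orbitSum_shift {v e f : P} (hec : ∀ g : P, Commute e g) (hfc : ∀ g : P, Commute f g)
    (hep : e ^ p = 1) (hfp : f ^ p = 1) (hef : f ≠ e) {u : E} (hu : (e * v) • u = u) :
    orbitSum p (f * v) u = 0 := by
  have hd : ∀ g : P, Commute (f * e⁻¹) g := fun g => (hfc g).mul_left (hec g).inv_left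
  have hdp : (f * e⁻¹) ^ p = 1 := by rw [(hfc _).mul_pow, inv_pow, hfp, hep, inv_one, one_mul]
  have hd1 : f * e⁻¹ ≠ 1 := fun h => hef (mul_inv_eq_one.1 h)
  have hpow : ∀ i : ℕ, (f * v) ^ i • u = (f * e⁻¹) ^ i • u := by
    intro i
    induction i with
    | zero => simp
    | succ i ih =>
      rw [pow_succ', mul_smul, ih, ← mul_smul]
      have h1 : (f * v) * (f * e⁻¹) ^ i = (f * e⁻¹) ^ (i + 1) * (e * v) := by
        rw [← ((hd (f * v)).pow_left i).eq, pow_succ]
        group
      rw [h1, mul_smul, hu]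
  refine Eq.trans (Finset.sum_congr rfl fun i _ => hpow i) ?_
  exact orbitSum_central hconst hpq hq hE hdp hd1 hd u

theorem allCyclic (hp2 : p ≠ 2) (hP : IsPGroup p P) (hE0 : Nontrivial E) :
    Classification.CyclicNormal.AllCyclic P := by
  classical
  intro A hAn hAc
  by_contra hncyc
  have hp : p.Prime := Fact.out
  -- a central element of order `p` in `A`
  have hA : A ≠ ⊥ := by
    rintro rfl
    exact hncyc inferInstance
  obtain ⟨z, hz, hz1, hzA⟩ : ∃ z : P, (∀ g, Commute z g) ∧ orderOf z = p ∧ z ∈ A := by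
    have hne := (haveI := (Subgroup.nontrivial_iff_ne_bot A).2 hA; BlocksCharsC.inf_center_ne_bot hP A)
    obtain ⟨w, hw⟩ := exists_prime_orderOf_dvd_card' p (G := ↥(A ⊓ Subgroup.center P))
      ((hP.to_subgroup _).card_eq_or_dvd.resolve_left fun h => hne (Subgroup.eq_bot_of_card_eq _ h))
    exact ⟨w, fun g => (Subgroup.mem_center_iff.1 (Subgroup.mem_inf.1 w.2).2 g).symm,
      by rw [Subgroup.orderOf_coe, hw], (Subgroup.mem_inf.1 w.2).1⟩
  have hzp : z ^ p = 1 := hz1 ▸ pow_orderOf_eq_one z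
  have hzne : z ≠ 1 := fun h => hp.ne_one (by rw [← hz1, h, orderOf_one])
  have hzc : ∀ g ∈ Subgroup.zpowers z, (∀ h : P, Commute g h) ∧ g ^ p = 1 := by
    rintro _ ⟨i, rfl⟩
    exact ⟨fun h => (hz h).zpow_left i, by
      show (z ^ i) ^ p = 1
      rw [← zpow_natCast, ← zpow_mul, mul_comm, zpow_mul, zpow_natCast, hzp, one_zpow]⟩
  -- an element of order `p` of `A`, central modulo `⟨z⟩`
  haveI : (Subgroup.zpowers z).Normal := ⟨fun g hg h => by rwa [← ((hzc g hg).1 h).eq, mul_inv_cancel_right]⟩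
  have hcomA : ∀ x ∈ A, ∀ y ∈ A, Commute x y := fun x hx y hy =>
    congrArg Subtype.val (hAc.is_comm.comm ⟨x, hx⟩ ⟨y, hy⟩)
  obtain ⟨v, hvA, hvp, hvz, hvn⟩ : ∃ v ∈ A, v ^ p = 1 ∧ v ∉ Subgroup.zpowers z ∧
      ∀ g : P, g * v * g⁻¹ * v⁻¹ ∈ Subgroup.zpowers z := by
    let O : Subgroup P :=
      { carrier := {x | x ∈ A ∧ x ^ p = 1}
        one_mem' := ⟨one_mem _, one_pow _⟩
        mul_mem' := fun {x y} hx hy => ⟨mul_mem hx.1 hy.1, by
          rw [(hcomA x hx.1 y hy.1).mul_pow, hx.2, hy.2, one_mul]⟩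
        inv_mem' := fun {x} hx => ⟨inv_mem hx.1, by rw [inv_pow, hx.2, inv_one]⟩ }
    haveI hOn : O.Normal := ⟨fun x hx g => ⟨hAn.conj_mem x hx.1 g, by rw [conj_pow, hx.2]; group⟩⟩
    have hO : O.map (QuotientGroup.mk' (Subgroup.zpowers z)) ≠ ⊥ := by
      intro h
      rw [Subgroup.map_eq_bot_iff, QuotientGroup.ker_mk'] at h
      apply hncyc
      refine FrobComp.isCyclic_of_uniqueOrderP (hP.to_subgroup A) (fun x y hx hy hx1 => ?_)
        (Or.inl fun x y => hAc.is_comm.comm x y)
      have hxz : (x : P) ∈ Subgroup.zpowers z := h ⟨x.2, congrArg Subtype.val hx⟩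
      have hyz : (y : P) ∈ Subgroup.zpowers z := h ⟨y.2, congrArg Subtype.val hy⟩
      have heq : Subgroup.zpowers (x : P) = Subgroup.zpowers z :=
        Subgroup.eq_of_le_of_card_ge (Subgroup.zpowers_le.2 hxz) (by
          rw [Nat.card_zpowers, Nat.card_zpowers, hz1, Subgroup.orderOf_coe,
            orderOf_eq_prime hx hx1])
      obtain ⟨k, hk⟩ := Subgroup.mem_zpowers_iff.1 (heq ▸ hyz)
      exact Subgroup.mem_zpowers_iff.2 ⟨k, Subtype.ext hk⟩
    haveI := hOn.map (QuotientGroup.mk' (Subgroup.zpowers z)) (QuotientGroup.mk'_surjective _)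
    haveI := (Subgroup.nontrivial_iff_ne_bot _).2 hO
    have hne := BlocksCharsC.inf_center_ne_bot (hP.to_quotient (Subgroup.zpowers z)) (O.map (QuotientGroup.mk' (Subgroup.zpowers z)))
    obtain ⟨w, hw, hw1⟩ := (Subgroup.bot_or_exists_ne_one _).resolve_left hne
    obtain ⟨hwO, hwc⟩ := Subgroup.mem_inf.1 hw
    obtain ⟨v, ⟨hvA, hvp⟩, rfl⟩ := hwO
    refine ⟨v, hvA, hvp, fun h => hw1 ((QuotientGroup.eq_one_iff v).2 h), fun g => ?_⟩
    rw [← QuotientGroup.eq_one_iff]
    have h1 := Subgroup.mem_center_iff.1 hwc (QuotientGroup.mk g)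
    simp only [QuotientGroup.mk_mul, QuotientGroup.mk_inv]
    rw [show (QuotientGroup.mk g : P ⧸ Subgroup.zpowers z) * QuotientGroup.mk v =
      QuotientGroup.mk v * QuotientGroup.mk g from h1]
    group
  -- some `z ^ i * v` fixes a non-zero element
  obtain ⟨e, he⟩ := exists_ne (0 : E)
  obtain ⟨i, hi, w, hw0, hw⟩ : ∃ i : ℕ, i < p ∧ ∃ w : E, w ≠ 0 ∧ (z ^ i * v) • w = w := by
    by_contra hall
    push Not at hall
    apply he
    apply eq_zero_of_nsmul hpq hq hE
    have h0 : ∀ i ∈ Finset.range p, orbitSum p (z ^ i * v) e = 0 := by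
      intro i hi
      by_contra h
      exact hall i (Finset.mem_range.1 hi) _ h (smul_orbitSum (by
        rw [((hz v).pow_left i).mul_pow, ← pow_mul, mul_comm i, pow_mul, hzp, one_pow, one_mul,
          hvp]) e)
    have h1 := Finset.sum_eq_zero h0
    simp only [orbitSum] at h1
    rw [Finset.sum_comm, Finset.sum_eq_single 0] at h1
    · simpa using h1
    · intro j hj hj0
      have : ∀ i : ℕ, (z ^ i * v) ^ j • e = v ^ j • ((z ^ j) ^ i • e) := fun i => by
        rw [((hz v).pow_left i).mul_pow, ← mul_smul, ← pow_mul, ← pow_mul, mul_comm j i,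
          ((hz _).pow_left _).eq]
      simp only [this, ← Finset.smul_sum]
      have hzj : z ^ j ≠ 1 := by
        intro h
        have := Nat.le_of_dvd (Nat.pos_of_ne_zero hj0) (orderOf_dvd_of_pow_eq_one h)
        rw [hz1] at this
        exact absurd (Finset.mem_range.1 hj) (by omega)
      rw [show ∑ i ∈ Finset.range p, (z ^ j) ^ i • e = 0 from
        orbitSum_central hconst hpq hq hE (by rw [← pow_mul, mul_comm, pow_mul, hzp, one_pow]) hzj
          (fun g => (hz g).pow_left j) e, smul_zero]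
    · intro h
      exact absurd (Finset.mem_range.2 hp.pos) h
  set u := z ^ i * v with hu
  have hun : ∀ g : P, g * u * g⁻¹ * u⁻¹ ∈ Subgroup.zpowers z := by
    intro g
    have : g * u * g⁻¹ * u⁻¹ = g * v * g⁻¹ * v⁻¹ := by
      rw [hu, mul_inv_rev]
      calc g * (z ^ i * v) * g⁻¹ * (v⁻¹ * (z ^ i)⁻¹)
          = z ^ i * (g * v * g⁻¹ * v⁻¹) * (z ^ i)⁻¹ := by
            rw [← mul_assoc g, ← ((hz g).pow_left i).eq]; group
        _ = _ := by rw [((hz _).pow_left i).eq, mul_inv_cancel_right]
    rw [this]; exact hvn g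
  have hup : u ^ p = 1 := by
    rw [hu, ((hz v).pow_left i).mul_pow, ← pow_mul, mul_comm i, pow_mul, hzp, one_pow, one_mul, hvp]
  have hu1 : u ≠ 1 := fun h => hvz (by
    rw [eq_inv_of_mul_eq_one_right h]
    exact inv_mem (pow_mem (Subgroup.mem_zpowers z) i))
  -- `u` is not central
  obtain ⟨g, hg⟩ : ∃ g : P, g * u * g⁻¹ ≠ u := by
    by_contra hall
    push Not at hall
    exact hw0 (fixed_of_central hconst hpq hq hE hup hu1
      (fun g => (mul_inv_eq_iff_eq_mul.1 (hall g)).symm) hw)
  obtain ⟨c, hc⟩ : ∃ c, c = g * u * g⁻¹ * u⁻¹ := ⟨_, rfl⟩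
  obtain ⟨hcc, hcp⟩ := hzc c (hc ▸ hun g)
  have hc1 : c ≠ 1 := fun h => hg (mul_inv_eq_one.1 (hc ▸ h))
  set w' := g • w with hw'
  have hw'f : (c * u) • w' = w' := by
    rw [hc, inv_mul_cancel_right, hw', ← mul_smul, inv_mul_cancel_right, mul_smul, hw]
  have hw'0 : w' ≠ 0 := (smul_ne_zero_iff_ne g).2 hw0
  have hNu : ∀ {f e : P} {x : E}, (∀ g, Commute e g) → (∀ g, Commute f g) → e ^ p = 1 → f ^ p = 1 →
      f ≠ e → (e * u) • x = x → orbitSum p (f * u) x = 0 :=
    fun he hf hep hfp hfe hx => orbitSum_shift hconst hpq hq hE he hf hep hfp hfe hx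
  have hN1 : orbitSum p u w' = 0 := by
    have := hNu (f := 1) hcc (fun g => Commute.one_left g) hcp (one_pow p) (Ne.symm hc1) hw'f
    rwa [one_mul] at this
  have hsum0 : w + w' ≠ 0 := fun h => hw0 (eq_zero_of_nsmul hpq hq hE (by
    have h1 := congrArg (orbitSum p u) h
    rw [orbitSum_add, orbitSum_of_fixed hw, hN1, add_zero] at h1
    simpa [orbitSum] using h1))
  have hstab : MulAction.stabilizer P (w + w') ≤
      MulAction.stabilizer P w ⊓ MulAction.stabilizer P w' := by
    intro h hh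
    rw [MulAction.mem_stabilizer_iff, smul_add] at hh
    obtain ⟨d, hd⟩ : ∃ d, d = h * u * h⁻¹ * u⁻¹ := ⟨_, rfl⟩
    obtain ⟨hdc, hdp⟩ := hzc d (hd ▸ hun h)
    have hwd : (d * u) • (h • w) = h • w := by
      rw [hd, inv_mul_cancel_right, ← mul_smul, inv_mul_cancel_right, mul_smul, hw]
    have hwd' : (c * d * u) • (h • w') = h • w' := by
      rw [← mul_smul, mul_assoc c, hd, inv_mul_cancel_right]
      calc (c * (h * u * h⁻¹) * h) • w' = (c * h * u) • w' := by group
        _ = (h * (c * u)) • w' := by rw [(hcc h).eq, mul_assoc]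
        _ = h • w' := by rw [mul_smul, hw'f]
    have hcd : ∀ g, Commute (c * d) g := fun g => (hcc g).mul_left (hdc g)
    have hcdp : (c * d) ^ p = 1 := by rw [(hcc d).mul_pow, hcp, hdp, one_mul]
    by_cases hd1 : d = 1
    · have h1 := congrArg (orbitSum p u) hh
      have h2 : orbitSum p u (h • w') = 0 := by
        have := hNu (f := 1) hcd (fun g => Commute.one_left g) hcdp (one_pow p)
          (by rw [hd1, mul_one]; exact Ne.symm hc1) hwd'
        rwa [one_mul] at this
      rw [hd1, one_mul] at hwd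
      rw [orbitSum_add, orbitSum_add, h2, hN1, add_zero, add_zero, orbitSum_of_fixed hwd,
        orbitSum_of_fixed hw, ← sub_eq_zero, ← smul_sub] at h1
      have h3 : h • w = w := sub_eq_zero.1 (eq_zero_of_nsmul hpq hq hE h1)
      rw [h3] at hh
      exact Subgroup.mem_inf.2 ⟨h3, add_left_cancel hh⟩
    · exfalso
      have h2 : orbitSum p u (h • w) = 0 := by
        have := hNu (f := 1) hdc (fun g => Commute.one_left g) hdp (one_pow p) (Ne.symm hd1) hwd
        rwa [one_mul] at this
      by_cases hcd1 : c * d = 1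
      · have hdc' : d = c⁻¹ := eq_inv_of_mul_eq_one_right hcd1
        have hne : c ≠ d := by
          intro he
          rw [← he, ← pow_two] at hcd1
          refine hc1 (orderOf_eq_one_iff.1 (Nat.eq_one_of_dvd_coprimes
            ((Nat.coprime_primes Nat.prime_two hp).2 (Ne.symm hp2))
            (orderOf_dvd_of_pow_eq_one hcd1) (orderOf_dvd_of_pow_eq_one hcp)))
        have h1 := congrArg (orbitSum p (c * u)) hh
        have ha : orbitSum p (c * u) (h • w) = 0 := hNu hdc hcc hdp hcp hne hwd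
        have hb : orbitSum p (c * u) (h • w') = 0 :=
          hNu (e := 1) (fun g => Commute.one_left g) hcc (one_pow p) hcp hc1
            (by rw [one_mul]; rwa [hcd1, one_mul] at hwd')
        have hc' : orbitSum p (c * u) w = 0 :=
          hNu (e := 1) (fun g => Commute.one_left g) hcc (one_pow p) hcp hc1 (by rw [one_mul]; exact hw)
        rw [orbitSum_add, orbitSum_add, ha, hb, hc', add_zero, zero_add, orbitSum_of_fixed hw'f] at h1
        exact hw'0 (eq_zero_of_nsmul hpq hq hE h1.symm)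
      · have h3 : orbitSum p u (h • w') = 0 := by
          have := hNu (f := 1) hcd (fun g => Commute.one_left g) hcdp (one_pow p) (Ne.symm hcd1) hwd'
          rwa [one_mul] at this
        have h1 := congrArg (orbitSum p u) hh
        rw [orbitSum_add, orbitSum_add, h2, h3, hN1, add_zero, add_zero, orbitSum_of_fixed hw] at h1
        exact hw0 (eq_zero_of_nsmul hpq hq hE h1.symm)
  have heq := Subgroup.eq_of_le_of_card_ge (hstab.trans inf_le_left) (hconst w _ hw0 hsum0).le
  have huw : u • w' = w' := (Subgroup.mem_inf.1 (hstab (show u ∈ MulAction.stabilizer P (w + w') from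
    heq.symm ▸ (hw : u ∈ MulAction.stabilizer P w)))).2
  exact hw'0 (eq_zero_of_nsmul hpq hq hE ((orbitSum_of_fixed huw).symm.trans hN1))

end

/-- A `p`-group, `p` odd, with stabilisers of constant order is cyclic and fixed-point-free. -/
theorem isCyclic_and_free (hp2 : p ≠ 2) (hP : IsPGroup p P) (hq : q.Prime) (hE : ∀ e : E, q • e = 0)
    (hconst : ∀ a b : E, a ≠ 0 → b ≠ 0 →
      Nat.card (MulAction.stabilizer P a) = Nat.card (MulAction.stabilizer P b)) :
    IsCyclic P ∧ ∀ g : P, g ≠ 1 → ∀ a : E, g • a = a → a = 0 := by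
  have hp : p.Prime := Fact.out
  rcases subsingleton_or_nontrivial E with hE0 | hE0
  · haveI : Subsingleton P := ⟨fun x y => eq_of_smul_eq_smul fun e : E => Subsingleton.elim _ _⟩
    exact ⟨⟨⟨1, fun x => ⟨0, Subsingleton.elim _ _⟩⟩⟩, fun g _ a _ => Subsingleton.elim _ _⟩
  by_cases hpq : p = q
  · subst hpq
    obtain ⟨b, hb, hb0⟩ := hP.exists_fixed_point_of_prime_dvd_card_of_fixed_point E
      (by
        obtain ⟨e, he⟩ := exists_ne (0 : E)
        rw [← addOrderOf_eq_prime (hE e) he]
        exact addOrderOf_dvd_natCard e)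
      (a := (0 : E)) (fun g => smul_zero g)
    have htop : ∀ a : E, a ≠ 0 → MulAction.stabilizer P a = ⊤ := fun a ha => by
      rw [← Subgroup.card_eq_iff_eq_top, hconst a b ha (Ne.symm hb0), Subgroup.card_eq_iff_eq_top]
      exact eq_top_iff.2 fun g _ => hb g
    haveI : Subsingleton P := by
      refine ⟨fun x y => eq_of_smul_eq_smul fun a : E => ?_⟩
      by_cases ha : a = 0
      · simp [ha]
      · have h : ∀ x : P, x • a = a := fun x =>
          MulAction.mem_stabilizer_iff.1 (htop a ha ▸ Subgroup.mem_top x)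
        rw [h, h]
    exact ⟨⟨⟨1, fun x => ⟨0, Subsingleton.elim _ _⟩⟩⟩, fun g hg _ _ => absurd (Subsingleton.elim g 1) hg⟩
  · have hn := allCyclic hconst hpq hq hE hp2 hP hE0
    have hcyc : IsCyclic P := (Classification.CyclicNormal.classify hP hn).resolve_right fun h => hp2 h.1
    refine ⟨hcyc, fun g hg a ha => ?_⟩
    obtain ⟨k, hk⟩ := IsPGroup.iff_orderOf.1 hP g
    obtain ⟨k, rfl⟩ : ∃ j, k = j + 1 := ⟨k - 1, by
      rcases k with _ | k
      · exact absurd (orderOf_eq_one_iff.1 (by simpa using hk)) hg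
      · rfl⟩
    refine fixed_of_central hconst hpq hq hE (z := g ^ p ^ k)
      (by rw [← pow_mul, ← pow_succ, ← hk, pow_orderOf_eq_one]) ?_
      (fun h => (letI := hcyc.commGroup; Commute.all _ h)) ?_
    · intro h
      have := Nat.le_of_dvd (pow_pos hp.pos k) (orderOf_dvd_of_pow_eq_one h)
      rw [hk, pow_succ] at this
      have := hp.two_le
      have := pow_pos hp.pos k
      nlinarith
    · exact (MulAction.mem_stabilizer_iff.1 (pow_mem (MulAction.mem_stabilizer_iff.2 ha) _))

end CfsgLib.HalfTransitive
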